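import Cfsg.Agent.Lib.Lie.MultExc.UFourThree.Table
import Cfsg.Agent.Lib.Lie.MultExc.UFourThree.Points

/-!
Nine elements, and the checks on the nonisotropic points.
-/

set_option autoImplicit false
set_option maxRecDepth 100000

namespace CfsgLib.Lie.MultExc.UFourThree

open CfsgLib.Spor.PermCert Matrix

/-- Nine elements. -/
structure Nine where
  v : Fin 9
  deriving DecidableEq

namespace Nine

instance instFintype : Fintype Nine := Fintype.ofEquiv (Fin 9) ⟨Nine.mk, Nine.v, fun _ => rfl, fun _ => rfl⟩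

/-- A code as an element: `a + 3 b` stands for `a + b i`, `i² = -1`. -/
def ofN (a : ℕ) : Nine := ⟨⟨a % 9, Nat.mod_lt _ (by norm_num)⟩⟩

instance instAdd : Add Nine := ⟨fun x y => ofN ((x.v.1 + y.v.1) % 3 + 3 * ((x.v.1 / 3 + y.v.1 / 3) % 3))⟩
instance instMul : Mul Nine := ⟨fun x y => ofN ((x.v.1 % 3 * (y.v.1 % 3) + 2 * (x.v.1 / 3) * (y.v.1 / 3)) % 3 +
  3 * ((x.v.1 % 3 * (y.v.1 / 3) + x.v.1 / 3 * (y.v.1 % 3)) % 3))⟩
instance instZero : Zero Nine := ⟨ofN 0⟩
instance instOne : One Nine := ⟨ofN 1⟩
instance instNeg : Neg Nine := ⟨fun x => ofN 2 * x⟩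
instance instInv : Inv Nine := ⟨fun x => let s := x * x; let t := s * s; t * s * x⟩

instance instCommRing : CommRing Nine where
  add_assoc := by decide +kernel
  zero_add := by decide +kernel
  add_zero := by decide +kernel
  add_comm := by decide +kernel
  left_distrib := by decide +kernel
  right_distrib := by decide +kernel
  zero_mul := by decide +kernel
  mul_zero := by decide +kernel
  mul_assoc := by decide +kernel
  one_mul := by decide +kernel
  mul_one := by decide +kernel
  mul_comm := by decide +kernel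
  neg_add_cancel := by decide +kernel
  nsmul := nsmulRec
  zsmul := zsmulRec

instance instField : Field Nine where
  exists_pair_ne := ⟨0, 1, by decide⟩
  mul_inv_cancel := by decide +kernel
  inv_zero := by decide +kernel
  nnqsmul := _
  nnqsmul_def := fun _ _ => rfl
  qsmul := _
  qsmul_def := fun _ _ => rfl

theorem card_nine : Fintype.card Nine = 9 := rfl

instance instCharP : CharP Nine 3 := by
  haveI := Fact.mk Nat.prime_three
  exact charP_of_card_eq_prime_pow (p := 3) (f := 2) (by rw [card_nine]; norm_num)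

end Nine

/-- The code of a vector. -/
def code (x : Fin 4 → Nine) : ℕ := (x 0).v.1 * 729 + (x 1).v.1 * 81 + (x 2).v.1 * 9 + (x 3).v.1

/-- The vector of a code. -/
def dec (c : ℕ) : Fin 4 → Nine := ![Nine.ofN (c / 729), Nine.ofN (c / 81), Nine.ofN (c / 9), Nine.ofN c]

/-- The vector of a point. -/
def vec (i : ℕ) : Fin 4 → Nine := dec ((ptsArr >>> (13 * i)) &&& 8191)

/-- The entry of a code. -/
def lineAt (c : ℕ) : ℕ := (lineArr >>> (13 * c)) &&& 8191

/-- The form. -/
def form (x y : Fin 4 → Nine) : Nine := x 0 * y 0 ^ 3 + x 1 * y 1 ^ 3 + x 2 * y 2 ^ 3 + x 3 * y 3 ^ 3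

/-- The generators. -/
def gmat (s : ℕ) : Matrix (Fin 4) (Fin 4) Nine := fun i j => Nine.ofN (((gentries.getD s []).getD i.1 []).getD j.1 0)

/-- A scaled vector. -/
def scal (c : Nine) (x : Fin 4 → Nine) : Fin 4 → Nine := fun q => c * x q

/-- The image of a vector. -/
def image (s : ℕ) (x : Fin 4 → Nine) : Fin 4 → Nine := fun i =>
  gmat s i 0 * x 0 + gmat s i 1 * x 1 + gmat s i 2 * x 2 + gmat s i 3 * x 3

theorem code_dec : ∀ c : Fin 6561, code (dec c.1) = c.1 := by decide +kernel

theorem dec_code (x : Fin 4 → Nine) : dec (code x) = x := by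
  have h : ∀ a b c d : Nine, dec (a.v.1 * 729 + b.v.1 * 81 + c.v.1 * 9 + d.v.1) = ![a, b, c, d] := by decide +kernel
  funext q
  rw [code, h]
  fin_cases q <;> rfl

theorem line_spec : ((List.range 6561).all fun c => decide (form (dec c) (dec c) = 0) ||
    (Nat.blt (lineAt c / 9) 540 &&
      decide (∀ q, scal (Nine.ofN (lineAt c % 9)) (vec (lineAt c / 9)) q = dec c q))) = true := by
  decide +kernel

theorem vec_spec : ((List.range 540).all fun i => decide (form (vec i) (vec i) ≠ 0) &&
    decide (∀ k : Fin 9, k.1 = 0 ∨ lineAt (code (scal (Nine.ofN k.1) (vec i))) / 9 = i)) = true := by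
  decide +kernel

theorem images_ok : ((List.range 2).all fun s => (List.range 540).all fun i => Nat.blt (look tab.w tab.R s i) 540 &&
    decide (lineAt (code (image s (vec i))) / 9 = look tab.w tab.R s i ∧
      form (image s (vec i)) (image s (vec i)) ≠ 0)) = true := by
  decide +kernel

theorem gmat_ok : ∀ s : Fin 2, (gmat s.1).det = 1 ∧ (gmat s.1)ᵀ * (gmat s.1).map (fun a => a ^ 3) = 1 := by
  decide +kernel

theorem moved : look tab.w tab.R 0 0 ≠ 0 ∨ look tab.w tab.R 0 1 ≠ 1 ∨ look tab.w tab.R 1 0 ≠ 0 := by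
  decide +kernel

end CfsgLib.Lie.MultExc.UFourThree
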