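import Cfsg.Agent.Lib.Lie.MultExc.UFourThree.Table

/-!
The table of the permutation group of degree 540 passes its checks.
-/

set_option autoImplicit false
set_option maxRecDepth 100000
set_option maxHeartbeats 0

namespace CfsgLib.Lie.MultExc.UFourThree

open CfsgLib.Spor.PermCert

/-- The check of some of the products. -/
def opsPart (k0 : ℕ) : Bool :=
  (List.range' k0 64).all fun k =>
    Nat.ble tab.ops.length k ||
      (let e := tab.ops.getD k (0, 0)
      decide (e.1 < 2 + k) && decide (e.2 < 2 + k) &&
        (List.range 540).all fun i => look 10 tab.R (2 + k) i == look 10 tab.R e.1 (look 10 tab.R e.2 i))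

theorem ops0_ok : opsPart 0 = true := by decide +kernel

theorem ops1_ok : opsPart 64 = true := by decide +kernel

theorem ops2_ok : opsPart 128 = true := by decide +kernel

theorem ops3_ok : opsPart 192 = true := by decide +kernel

theorem ops4_ok : opsPart 256 = true := by decide +kernel

theorem ops5_ok : opsPart 320 = true := by decide +kernel

theorem ops6_ok : opsPart 384 = true := by decide +kernel

theorem ops7_ok : opsPart 448 = true := by decide +kernel

theorem ops8_ok : opsPart 512 = true := by decide +kernel

theorem ops9_ok : opsPart 576 = true := by decide +kernel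

theorem ops10_ok : opsPart 640 = true := by decide +kernel

theorem ops11_ok : opsPart 704 = true := by decide +kernel

theorem ops12_ok : opsPart 768 = true := by decide +kernel

theorem chain_ok : chainOK 540 tab.w tab.R tab.len [] tab.base tab.trans = true := by decide +kernel

theorem size_ok : Nat.beq (tab.trans.map List.length).prod 3265920 = true ∧ Nat.ble tab.ops.length 832 = true := by
  decide +kernel

theorem part_spec {k0 : ℕ} (h : opsPart k0 = true) {k : ℕ} (h0 : k0 ≤ k) (h1 : k < k0 + 64) (hk : k < tab.ops.length) :
    (decide ((tab.ops.getD k (0, 0)).1 < 2 + k) && decide ((tab.ops.getD k (0, 0)).2 < 2 + k) &&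
      (List.range 540).all fun i => look 10 tab.R (2 + k) i ==
        look 10 tab.R (tab.ops.getD k (0, 0)).1 (look 10 tab.R (tab.ops.getD k (0, 0)).2 i)) = true := by
  have hk' := List.all_eq_true.1 h k (List.mem_range'_1.2 ⟨h0, h1⟩)
  rw [Bool.or_eq_true] at hk'
  exact hk'.resolve_left fun hb => absurd (Nat.le_of_ble_eq_true hb) (by omega)

theorem tab_ok : tab.ok 540 3265920 = true := by
  simp only [Tab.ok, Bool.and_eq_true]
  refine ⟨⟨List.all_eq_true.2 fun k hk => ?_, chain_ok⟩, size_ok.1⟩
  have hk' := List.mem_range.1 hk
  have hlen := Nat.le_of_ble_eq_true size_ok.2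
  rcases Nat.lt_or_ge k 64 with h | h
  · exact part_spec ops0_ok (by omega) (by omega) hk'
  rcases Nat.lt_or_ge k 128 with h | h
  · exact part_spec ops1_ok (by omega) (by omega) hk'
  rcases Nat.lt_or_ge k 192 with h | h
  · exact part_spec ops2_ok (by omega) (by omega) hk'
  rcases Nat.lt_or_ge k 256 with h | h
  · exact part_spec ops3_ok (by omega) (by omega) hk'
  rcases Nat.lt_or_ge k 320 with h | h
  · exact part_spec ops4_ok (by omega) (by omega) hk'
  rcases Nat.lt_or_ge k 384 with h | h
  · exact part_spec ops5_ok (by omega) (by omega) hk'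
  rcases Nat.lt_or_ge k 448 with h | h
  · exact part_spec ops6_ok (by omega) (by omega) hk'
  rcases Nat.lt_or_ge k 512 with h | h
  · exact part_spec ops7_ok (by omega) (by omega) hk'
  rcases Nat.lt_or_ge k 576 with h | h
  · exact part_spec ops8_ok (by omega) (by omega) hk'
  rcases Nat.lt_or_ge k 640 with h | h
  · exact part_spec ops9_ok (by omega) (by omega) hk'
  rcases Nat.lt_or_ge k 704 with h | h
  · exact part_spec ops10_ok (by omega) (by omega) hk'
  rcases Nat.lt_or_ge k 768 with h | h
  · exact part_spec ops11_ok (by omega) (by omega) hk'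
  rcases Nat.lt_or_ge k 832 with h | h
  · exact part_spec ops12_ok (by omega) (by omega) hk'
  omega

end CfsgLib.Lie.MultExc.UFourThree
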