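import Cfsg.Agent.Lib.Lie.MultExc.UFourThree.Checks
import Cfsg.Agent.Lib.Lie.MultExc.UFourThree.CheckPoints
import Cfsg.Agent.Lib.Classical.PSUSimple
import Cfsg.Agent.Lib.Classical.HermOrder
import Cfsg.Agent.Lib.SU.CenterCard
import Mathlib.LinearAlgebra.Projectivization.Action

/-!
The projective special unitary group in dimension four over three elements is the tabulated group of the 540
nonisotropic points.
-/

set_option autoImplicit false
set_option maxRecDepth 100000

namespace CfsgLib.Lie.MultExc.UFourThree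

open CfsgLib.Spor.PermCert Matrix CfsgLib.SU
open scoped MatrixGroups LinearAlgebra.Projectivization

universe u

variable {F : Type u} [Field F] [Fintype F] (hF : Fintype.card F = 9)

include hF

theorem exists_model_u43 : ∃ H : Subgroup (Equiv.Perm (Fin 540)), Model 540 tab H ∧
    Nonempty (↥H ≃* Cfsg.PSU 4 F 3) := by
  classical
  let ι : Nine ≃+* F := FiniteField.ringEquivOfCardEq (Nine.card_nine.trans hF.symm)
  haveI := Fact.mk Nat.prime_three
  haveI : CharP F 3 := charP_of_card_eq_prime_pow (p := 3) (f := 2) (by rw [hF]; norm_num)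
  have hF' : Fintype.card F = 3 ^ 2 := by rw [hF]; norm_num
  haveI : IsSimpleGroup (Cfsg.PSU 4 F 3) := CfsgLib.Classical.psu_isSimple hF' (by norm_num) (by norm_num)
  -- the form on the tables
  have hform : ∀ x y : Fin 4 → Nine, Cfsg.hermForm 4 F 3 (fun q => ι (x q)) (fun q => ι (y q)) = ι (form x y) := by
    intro x y
    simp only [Cfsg.hermForm, form, Fin.sum_univ_four, map_add, map_mul, map_pow]
  have hι : ∀ x : Fin 4 → F, x = fun q => ι ((fun q => ι.symm (x q)) q) := fun x => by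
    funext q
    rw [ι.apply_symm_apply]
  have hvne : ∀ i : Fin 540, (fun q => ι (vec i.1 q)) ≠ (0 : Fin 4 → F) := by
    intro i h
    have h0 := List.all_eq_true.1 vec_spec i.1 (List.mem_range.2 i.2)
    simp only [Bool.and_eq_true, decide_eq_true_eq] at h0
    refine h0.1 (ι.injective ?_)
    rw [← hform, h, map_zero]
    simp [Cfsg.hermForm]
  let e : Fin 540 → ℙ F (Fin 4 → F) := fun i => Projectivization.mk F (fun q => ι (vec i.1 q)) (hvne i)
  have hline : ∀ (x : Fin 4 → Nine), form x x ≠ 0 → ∀ hx : (fun q => ι (x q)) ≠ 0, ∃ j : Fin 540,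
      j.1 = lineAt (code x) / 9 ∧ Projectivization.mk F (fun q => ι (x q)) hx = e j := by
    intro x hfx hx
    have hc : code x < 6561 := by
      have := (x 0).v.2; have := (x 1).v.2; have := (x 2).v.2; have := (x 3).v.2
      simp only [code]; omega
    have h0 := List.all_eq_true.1 line_spec (code x) (List.mem_range.2 hc)
    simp only [dec_code, Bool.or_eq_true, Bool.and_eq_true, decide_eq_true_eq] at h0
    obtain ⟨hlt, hq⟩ := h0.resolve_left hfx
    refine ⟨⟨_, Nat.le_of_ble_eq_true hlt⟩, rfl,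
      (Projectivization.mk_eq_mk_iff' F _ _ hx _).2 ⟨ι (Nine.ofN (lineAt (code x) % 9)), funext fun q => ?_⟩⟩
    simp only [Pi.smul_apply, smul_eq_mul]
    rw [← map_mul, ← hq q]
    rfl
  have he : Function.Injective e := fun i j h => by
    obtain ⟨a, ha⟩ := (Projectivization.mk_eq_mk_iff' F _ _ _ _).1 h
    have ha0 : ι.symm a ≠ 0 := fun h0 => hvne i (by
      rw [← ha, show a = 0 from ι.symm.injective (h0.trans (map_zero _).symm), zero_smul])
    have e1 : scal (ι.symm a) (vec j.1) = vec i.1 := funext fun q => ι.injective (by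
      rw [scal, map_mul, ι.apply_symm_apply]
      exact congrFun ha q)
    have h1 := List.all_eq_true.1 vec_spec i.1 (List.mem_range.2 i.2)
    have h2 := List.all_eq_true.1 vec_spec j.1 (List.mem_range.2 j.2)
    simp only [Bool.and_eq_true, decide_eq_true_eq] at h1 h2
    have h1' := (h1.2 ⟨1, by norm_num⟩).resolve_left (by norm_num)
    have h2' := (h2.2 (ι.symm a).v).resolve_left (fun h0 => ha0 (by
      rw [show ι.symm a = ⟨(ι.symm a).v⟩ from rfl, show (ι.symm a).v = 0 from Fin.ext h0]; rfl))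
    rw [show Nine.ofN (ι.symm a).v.1 = ι.symm a from (by decide +kernel : ∀ b : Nine, Nine.ofN b.v.1 = b) _, e1] at h2'
    rw [show scal (Nine.ofN 1) (vec i.1) = vec i.1 from funext fun q => one_mul _] at h1'
    exact Fin.ext (h1'.symm.trans h2')
  have hcen : ∀ A ∈ Subgroup.center (Cfsg.SU 4 F 3), ∀ i, (A.1 : SpecialLinearGroup (Fin 4) F) • e i = e i := by
    intro A hA i
    obtain ⟨C⟩ := CfsgLib.Classical.uctx_exists hF'
    obtain ⟨c, hc, -⟩ := C.scalar_of_mem_center (n := 4) (by norm_num) hA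
    have hm : (A.1 : Matrix (Fin 4) (Fin 4) F) = ((c : Fˣ) : F) • 1 :=
      (congrArg (fun g : ↥(Cfsg.GU 4 F 3) => g.1.1) hc).trans (C.gscal_val c)
    show Projectivization.mk F ((A.1 : SpecialLinearGroup (Fin 4) F) • fun q => ι (vec i.1 q)) _ = _
    refine (Projectivization.mk_eq_mk_iff' F _ _ _ _).2 ⟨((c : Fˣ) : F), ?_⟩
    show ((c : Fˣ) : F) • _ = (A.1 : Matrix (Fin 4) (Fin 4) F) *ᵥ _
    rw [hm, Matrix.smul_mulVec, Matrix.one_mulVec]
  have hmove : ∀ (A : Cfsg.SU 4 F 3) (i : Fin 540), ∃ j, (A.1 : SpecialLinearGroup (Fin 4) F) • e i = e j := by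
    intro A i
    let x : Fin 4 → Nine := fun q => ι.symm (((A.1 : Matrix (Fin 4) (Fin 4) F) *ᵥ fun q => ι (vec i.1 q)) q)
    have hx : (fun q => ι (x q)) = (A.1 : Matrix (Fin 4) (Fin 4) F) *ᵥ fun q => ι (vec i.1 q) := by
      funext q
      exact ι.apply_symm_apply _
    have h0 := List.all_eq_true.1 vec_spec i.1 (List.mem_range.2 i.2)
    simp only [Bool.and_eq_true, decide_eq_true_eq] at h0
    have hfx : form x x ≠ 0 := fun h => h0.1 (ι.injective (by
      rw [← hform, ← A.2 (fun q => ι (vec i.1 q)) (fun q => ι (vec i.1 q))]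
      show Cfsg.hermForm 4 F 3 ((A.1 : Matrix (Fin 4) (Fin 4) F) *ᵥ _) ((A.1 : Matrix (Fin 4) (Fin 4) F) *ᵥ _) = _
      rw [← hx, hform, h]))
    have hne : (fun q => ι (x q)) ≠ 0 := by
      rw [hx]
      exact (smul_ne_zero_iff_ne (A.1 : SpecialLinearGroup (Fin 4) F)).2 (hvne i)
    obtain ⟨j, -, hj⟩ := hline x hfx hne
    refine ⟨j, ?_⟩
    rw [← hj]
    show Projectivization.mk F ((A.1 : SpecialLinearGroup (Fin 4) F) • fun q => ι (vec i.1 q)) _ = _
    simp only [hx]
    rfl
  let V := {x : ℙ F (Fin 4 → F) // ∃ i, x = e i}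
  let act : Cfsg.SU 4 F 3 →* Equiv.Perm V :=
    { toFun := fun A =>
        { toFun := fun x => ⟨(A.1 : SpecialLinearGroup (Fin 4) F) • x.1, by
            obtain ⟨i, hi⟩ := x.2
            rw [hi]; exact hmove A i⟩
          invFun := fun x => ⟨((A⁻¹ : Cfsg.SU 4 F 3).1 : SpecialLinearGroup (Fin 4) F) • x.1, by
            obtain ⟨i, hi⟩ := x.2
            rw [hi]; exact hmove A⁻¹ i⟩
          left_inv := fun x => Subtype.ext (by simp)
          right_inv := fun x => Subtype.ext (by simp) }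
      map_one' := Equiv.ext fun x => Subtype.ext (one_smul _ x.1)
      map_mul' := fun A B => Equiv.ext fun x => Subtype.ext (mul_smul A.1 B.1 x.1) }
  letI : MulAction (Cfsg.PSU 4 F 3) V :=
    MulAction.compHom _ (QuotientGroup.lift (Subgroup.center (Cfsg.SU 4 F 3)) act fun A hA => Equiv.ext fun x =>
      Subtype.ext (by
        obtain ⟨i, hi⟩ := x.2
        show (A.1 : SpecialLinearGroup (Fin 4) F) • x.1 = x.1
        rw [hi]; exact hcen A hA i))
  -- the generators
  let frob : F →+* F := frobenius F 3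
  have hgmem : ∀ s : Fin 2, (⟨ι.toRingHom.mapMatrix (gmat s.1), by rw [← RingHom.map_det, (gmat_ok s).1, map_one]⟩ :
      SpecialLinearGroup (Fin 4) F) ∈ Cfsg.SU 4 F 3 := by
    intro s x y
    show Cfsg.hermForm 4 F 3 (ι.toRingHom.mapMatrix (gmat s.1) *ᵥ x) (ι.toRingHom.mapMatrix (gmat s.1) *ᵥ y) = _
    set M := ι.toRingHom.mapMatrix (gmat s.1) with hM
    have hh : ∀ u v : Fin 4 → F, Cfsg.hermForm 4 F 3 u v = u ⬝ᵥ (frob ∘ v) := fun u v => rfl
    have hfm : frob ∘ (M *ᵥ y) = M.map frob *ᵥ (frob ∘ y) := funext fun q => RingHom.map_mulVec frob M y q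
    have hprod : Mᵀ * M.map frob = 1 := by
      have h1 := congrArg ι.toRingHom.mapMatrix (gmat_ok s).2
      rw [map_mul, map_one] at h1
      rw [← h1]
      congr 1
      ext a b
      simp [hM, frob, frobenius_def]
    rw [hh, hh, hfm, dotProduct_comm, dotProduct_mulVec, ← mulVec_transpose, mulVec_mulVec, hprod, one_mulVec,
      dotProduct_comm]
  let gs : ℕ → Cfsg.PSU 4 F 3 := fun s =>
    if h : s < 2 then QuotientGroup.mk (⟨_, hgmem ⟨s, h⟩⟩ : Cfsg.SU 4 F 3) else 1
  have hcard : Nat.card (Cfsg.PSU 4 F 3) = 3265920 := by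
    obtain ⟨C⟩ := CfsgLib.Classical.uctx_exists hF'
    have h1 := CfsgLib.Classical.card_su_mul C hF' (n := 4) (by norm_num)
    rw [CfsgLib.Classical.card_gu_formula C hF' 4] at h1
    have h2 := Subgroup.card_eq_card_quotient_mul_card_subgroup (Subgroup.center (Cfsg.SU 4 F 3))
    rw [C.card_center_su hF' (by norm_num : 3 ≤ 4)] at h2
    rw [h2, show (3 : ℕ) ^ (4 * (4 - 1) / 2) * ∏ i ∈ Finset.range 4,
        (if Even i then 3 ^ (i + 1) + 1 else 3 ^ (i + 1) - 1) = 52254720 by decide +kernel,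
      show Nat.gcd 4 (3 + 1) = 4 from rfl] at h1
    change 4 * (Nat.card (Cfsg.PSU 4 F 3) * 4) = 52254720 at h1
    omega
  refine exists_model tab (V := V) (fun i => ⟨e i, i, rfl⟩) (fun i j h => he (congrArg Subtype.val h))
    (fun g i => ?_) gs (fun s hs i => ?_) ?_ (by rw [hcard]; exact tab_ok)
  · obtain ⟨A, rfl⟩ := QuotientGroup.mk_surjective g
    obtain ⟨j, hj⟩ := hmove A i
    exact ⟨j, Subtype.ext hj⟩
  · have hs2 : s < 2 := hs
    have h0 := List.all_eq_true.1 (List.all_eq_true.1 images_ok s (List.mem_range.2 hs2)) i.1 (List.mem_range.2 i.2)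
    simp only [Bool.and_eq_true, decide_eq_true_eq] at h0
    obtain ⟨hlt, hlk, hfne⟩ := h0
    have himg : ι.toRingHom.mapMatrix (gmat s) *ᵥ (fun q => ι (vec i.1 q)) = fun q => ι (image s (vec i.1) q) := by
      funext q
      simp [image, Matrix.mulVec, dotProduct, Fin.sum_univ_four]
    have hne : (fun q => ι (image s (vec i.1) q)) ≠ 0 := fun h => hfne (ι.injective (by
      rw [← hform, h, map_zero]; simp [Cfsg.hermForm]))
    obtain ⟨j, hj, hj'⟩ := hline _ hfne hne
    refine ⟨⟨_, Nat.le_of_ble_eq_true hlt⟩, rfl, ?_⟩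
    rw [show gs s = QuotientGroup.mk (⟨_, hgmem ⟨s, hs2⟩⟩ : Cfsg.SU 4 F 3) from dif_pos hs2]
    refine Subtype.ext ?_
    show ((⟨_, hgmem ⟨s, hs2⟩⟩ : Cfsg.SU 4 F 3).1 : SpecialLinearGroup (Fin 4) F) • e i = e ⟨look tab.w tab.R s i.1, Nat.le_of_ble_eq_true hlt⟩
    rw [show (⟨look tab.w tab.R s i.1, Nat.le_of_ble_eq_true hlt⟩ : Fin 540) = j from Fin.ext (hlk.symm.trans hj.symm), ← hj']
    show Projectivization.mk F (ι.toRingHom.mapMatrix (gmat s) *ᵥ fun q => ι (vec i.1 q)) _ = _
    simp only [himg]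
  · rcases moved with h | h | h
    · exact ⟨0, by decide, ⟨0, by norm_num⟩, h⟩
    · exact ⟨0, by decide, ⟨1, by norm_num⟩, h⟩
    · exact ⟨1, by decide, ⟨0, by norm_num⟩, h⟩

end CfsgLib.Lie.MultExc.UFourThree
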